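import Groth.Prelude.Def_Biext
import Mathlib.CategoryTheory.Sites.IsSheafFor

/-! Biextensions of abelian sheaves: units of the partial laws, symmetry, descent of splittings along
multiplication by integers for divisible sheaves. -/

set_option autoImplicit false
universe u

open CategoryTheory Opposite

namespace Groth.Agent.BiextLib

variable {C : Type (u + 1)} [Category.{u} C] {J : GrothendieckTopology C}
  {P Q G : Sheaf J AddCommGrpCat.{u + 1}} (B : Biext J P Q G)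

/-- Two sections of an abelian sheaf which agree on a covering are equal. -/
theorem sect_ext (F : Sheaf J AddCommGrpCat.{u + 1}) {T : C} {R : Sieve T} (hR : R ∈ J T)
    {x y : F.obj.obj (op T)}
    (h : ∀ ⦃T' : C⦄ (f : T' ⟶ T), R f → F.obj.map f.op x = F.obj.map f.op y) : x = y :=
  ((isSheaf_iff_isSheaf_of_type J (F.obj ⋙ forget AddCommGrpCat.{u + 1})).1
    ((Biext.uSh J F).property) R hR).isSeparatedFor.ext fun T' f hf => h f hf

/-- Two sections of a sheaf of sets which agree on a covering are equal. -/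
theorem sect_ext' (F : Sheaf J (Type (u + 1))) {T : C} {R : Sieve T} (hR : R ∈ J T)
    {x y : F.obj.obj (op T)}
    (h : ∀ ⦃T' : C⦄ (f : T' ⟶ T), R f → F.obj.map f.op x = F.obj.map f.op y) : x = y :=
  ((isSheaf_iff_isSheaf_of_type J F.obj).1 F.property R hR).isSeparatedFor.ext fun T' f hf => h f hf

theorem map_map (F : Sheaf J AddCommGrpCat.{u + 1}) {T T' T'' : C} (f : T' ⟶ T) (g : T'' ⟶ T')
    (x : F.obj.obj (op T)) : F.obj.map g.op (F.obj.map f.op x) = F.obj.map (g ≫ f).op x := by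
  show (F.obj.map f.op ≫ F.obj.map g.op) x = _
  rw [← Functor.map_comp]
  rfl

theorem map_map' (F : Sheaf J (Type (u + 1))) {T T' T'' : C} (f : T' ⟶ T) (g : T'' ⟶ T')
    (x : F.obj.obj (op T)) : F.obj.map g.op (F.obj.map f.op x) = F.obj.map (g ≫ f).op x := by
  show (F.obj.map f.op ≫ F.obj.map g.op) x = _
  rw [← Functor.map_comp]
  rfl

/-- The biextension with the two factors exchanged. -/
def swap : Biext J Q P G where
  E := B.E
  πP := B.πQ
  πQ := B.πP
  πP_map := B.πQ_map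
  πQ_map := B.πP_map
  act := B.act
  act_map := B.act_map
  πP_act := B.πQ_act
  πQ_act := B.πP_act
  zero_act := B.zero_act
  add_act := B.add_act
  existsUnique_act T x y h h' := B.existsUnique_act T x y h' h
  locallySurjective T q p := by
    obtain ⟨R, hR, h⟩ := B.locallySurjective T p q
    exact ⟨R, hR, fun T' f hf => (h f hf).imp fun x hx => ⟨hx.2, hx.1⟩⟩
  add₁ := B.add₂
  πP_add₁ := B.πQ_add₂
  πQ_add₁ := B.πP_add₂
  add₁_map := B.add₂_map
  add₁_comm := B.add₂_comm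
  add₁_assoc := B.add₂_assoc
  add₁_act := B.add₂_act
  add₂ := B.add₁
  πP_add₂ := B.πQ_add₁
  πQ_add₂ := B.πP_add₁
  add₂_map := B.add₁_map
  add₂_comm := B.add₁_comm
  add₂_assoc := B.add₁_assoc
  add₂_act := B.add₁_act
  compat T x y z t hxy hzt hxz hyt := (B.compat T x z y t hxz hyt hxy hzt).symm

variable {T : C}

theorem add₁_congr {x x' z z' : B.E.obj.obj (op T)} (hx : x = x') (hz : z = z')
    (h : B.πQ T x = B.πQ T z) (h' : B.πQ T x' = B.πQ T z') : B.add₁ T x z h = B.add₁ T x' z' h' := by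
  subst hx hz; rfl

theorem add₂_congr {x x' z z' : B.E.obj.obj (op T)} (hx : x = x') (hz : z = z')
    (h : B.πP T x = B.πP T z) (h' : B.πP T x' = B.πP T z') : B.add₂ T x z h = B.add₂ T x' z' h' := by
  subst hx hz; rfl

theorem add₁_act_right (g : G.obj.obj (op T)) (x z : B.E.obj.obj (op T)) (h : B.πQ T x = B.πQ T z) :
    B.add₁ T x (B.act T g z) (h.trans (B.πQ_act T g z).symm) = B.act T g (B.add₁ T x z h) := by
  rw [B.add₁_comm, B.add₁_act T g z x h.symm, B.add₁_comm]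

theorem add₁_act₂ (g g' : G.obj.obj (op T)) (x z : B.E.obj.obj (op T)) (h : B.πQ T x = B.πQ T z) :
    B.add₁ T (B.act T g x) (B.act T g' z) (((B.πQ_act T g x).trans h).trans (B.πQ_act T g' z).symm) =
      B.act T (g + g') (B.add₁ T x z h) := by
  rw [B.add₁_act T g x (B.act T g' z) (h.trans (B.πQ_act T g' z).symm), add₁_act_right B g' x z h, B.add_act]

theorem add₂_act₂ (g g' : G.obj.obj (op T)) (x z : B.E.obj.obj (op T)) (h : B.πP T x = B.πP T z) :
    B.add₂ T (B.act T g x) (B.act T g' z) (((B.πP_act T g x).trans h).trans (B.πP_act T g' z).symm) =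
      B.act T (g + g') (B.add₂ T x z h) :=
  add₁_act₂ (swap B) g g' x z h

theorem add₁_add₁ (x y z w : B.E.obj.obj (op T)) (hxy : B.πQ T x = B.πQ T y) (hzw : B.πQ T z = B.πQ T w)
    (hxz : B.πQ T x = B.πQ T z) :
    B.add₁ T (B.add₁ T x y hxy) (B.add₁ T z w hzw) ((B.πQ_add₁ T x y hxy).trans (hxz.trans (B.πQ_add₁ T z w hzw).symm)) =
      B.add₁ T (B.add₁ T x z hxz) (B.add₁ T y w (hxy.symm.trans (hxz.trans hzw)))
        ((B.πQ_add₁ T x z hxz).trans (hxy.trans (B.πQ_add₁ T y w (hxy.symm.trans (hxz.trans hzw))).symm)) := by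
  have hyz : B.πQ T y = B.πQ T z := hxy.symm.trans hxz
  have hyw : B.πQ T y = B.πQ T w := hyz.trans hzw
  rw [B.add₁_assoc T x y (B.add₁ T z w hzw) hxy (hyz.trans (B.πQ_add₁ T z w hzw).symm),
    B.add₁_assoc T x z (B.add₁ T y w hyw) hxz (hyz.symm.trans (B.πQ_add₁ T y w hyw).symm)]
  refine add₁_congr B rfl ?_ _ _
  rw [← B.add₁_assoc T y z w hyz hzw, ← B.add₁_assoc T z y w hyz.symm hyw]
  exact add₁_congr B (B.add₁_comm T y z hyz) rfl _ _

/-- The coordinate, relative to the unit, of a section above `(0, q)`. -/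
theorem existsUnique_coord (x : B.E.obj.obj (op T)) (hx : B.πP T x = 0) :
    ∃! g : G.obj.obj (op T), B.act T g x = B.add₁ T x x rfl :=
  B.existsUnique_act T x _ (by rw [B.πP_add₁, hx, add_zero]) (B.πQ_add₁ T x x rfl).symm

/-- The coordinate, relative to the unit, of a section above `(0, q)`. -/
noncomputable def coord (x : B.E.obj.obj (op T)) (hx : B.πP T x = 0) : G.obj.obj (op T) :=
  (existsUnique_coord B x hx).choose

theorem act_coord (x : B.E.obj.obj (op T)) (hx : B.πP T x = 0) :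
    B.act T (coord B x hx) x = B.add₁ T x x rfl :=
  (existsUnique_coord B x hx).choose_spec.1

theorem coord_eq {x : B.E.obj.obj (op T)} {hx : B.πP T x = 0} {g : G.obj.obj (op T)}
    (h : B.act T g x = B.add₁ T x x rfl) : coord B x hx = g :=
  ((existsUnique_coord B x hx).choose_spec.2 g h).symm

theorem coord_congr {x x' : B.E.obj.obj (op T)} (e : x = x') (hx : B.πP T x = 0) (hx' : B.πP T x' = 0) :
    coord B x hx = coord B x' hx' := by
  subst e; rfl

theorem coord_add₁ (x z : B.E.obj.obj (op T)) (hx : B.πP T x = 0) (hz : B.πP T z = 0)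
    (h : B.πQ T x = B.πQ T z) (hxz : B.πP T (B.add₁ T x z h) = 0) :
    coord B (B.add₁ T x z h) hxz = coord B x hx + coord B z hz := by
  refine coord_eq B ?_
  rw [← add₁_act₂ B _ _ x z h, add₁_add₁ B x z x z h h rfl]
  exact add₁_congr B (act_coord B x hx) (act_coord B z hz) _ _

theorem coord_add₂ (x y : B.E.obj.obj (op T)) (hx : B.πP T x = 0) (hy : B.πP T y = 0)
    (h : B.πP T x = B.πP T y) (hxy : B.πP T (B.add₂ T x y h) = 0) :
    coord B (B.add₂ T x y h) hxy = coord B x hx + coord B y hy := by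
  refine coord_eq B ?_
  rw [← add₂_act₂ B _ _ x y h, B.compat T x y x y h h rfl rfl]
  exact add₂_congr B (act_coord B x hx) (act_coord B y hy) _ _

theorem coord_map {T' : C} (f : T' ⟶ T) (x : B.E.obj.obj (op T)) (hx : B.πP T x = 0)
    (hx' : B.πP T' (B.E.obj.map f.op x) = 0) :
    coord B (B.E.obj.map f.op x) hx' = G.obj.map f.op (coord B x hx) := by
  refine coord_eq B ?_
  rw [← B.act_map, act_coord, B.add₁_map]

theorem add₁_eq_right {x : B.E.obj.obj (op T)} {hx : B.πP T x = 0} (h0 : coord B x hx = 0)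
    (z : B.E.obj.obj (op T)) (h : B.πQ T x = B.πQ T z) : B.add₁ T x z h = z := by
  obtain ⟨g, hg, -⟩ := B.existsUnique_act T z (B.add₁ T x z h) (by rw [B.πP_add₁, hx, zero_add])
    (h.symm.trans (B.πQ_add₁ T x z h).symm)
  have hxx : B.add₁ T x x rfl = x := by rw [← act_coord B x hx, h0, B.zero_act]
  have e : B.act T (g + g) z = B.act T g z := by
    conv_rhs => rw [hg]
    rw [B.add_act, hg, ← add₁_act_right B g x z h]
    refine (add₁_congr B rfl hg _ (h.trans (h.symm.trans (B.πQ_add₁ T x z h).symm))).trans ?_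
    rw [← B.add₁_assoc T x x z rfl h]
    exact add₁_congr B hxx rfl _ _
  have := (B.existsUnique_act T z (B.act T g z) (B.πP_act T g z).symm (B.πQ_act T g z).symm).unique e rfl
  rw [← hg, add_eq_left.1 this, B.zero_act]

/-- Local divisibility of an abelian sheaf by an integer. -/
def LDiv (n : ℤ) (F : Sheaf J AddCommGrpCat.{u + 1}) : Prop :=
  ∀ (T : C) (p : F.obj.obj (op T)), ∃ R ∈ J T, ∀ ⦃T' : C⦄ (f : T' ⟶ T), R f →
    ∃ p' : F.obj.obj (op T'), n • p' = F.obj.map f.op p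

/-- A splitting of the inverse image of `B` by `(n, m)`, as sections of `B`. -/
structure PreSplit (n m : ℤ) where
  /-- the section above `(n • p, m • q)` -/
  τ : ∀ T : C, P.obj.obj (op T) → Q.obj.obj (op T) → B.E.obj.obj (op T)
  hP : ∀ (T : C) (p : P.obj.obj (op T)) (q : Q.obj.obj (op T)), B.πP T (τ T p q) = n • p
  hQ : ∀ (T : C) (p : P.obj.obj (op T)) (q : Q.obj.obj (op T)), B.πQ T (τ T p q) = m • q
  hmap : ∀ {T T' : C} (f : T' ⟶ T) (p : P.obj.obj (op T)) (q : Q.obj.obj (op T)),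
    B.E.obj.map f.op (τ T p q) = τ T' (P.obj.map f.op p) (Q.obj.map f.op q)
  hadd₁ : ∀ (T : C) (p p' : P.obj.obj (op T)) (q : Q.obj.obj (op T)),
    τ T (p + p') q = B.add₁ T (τ T p q) (τ T p' q) ((hQ T p q).trans (hQ T p' q).symm)
  hadd₂ : ∀ (T : C) (p : P.obj.obj (op T)) (q q' : Q.obj.obj (op T)),
    τ T p (q + q') = B.add₂ T (τ T p q) (τ T p q') ((hP T p q).trans (hP T p q').symm)

variable {B} {n m : ℤ} (s : PreSplit B n m)

/-- Exchange of the two factors. -/
def PreSplit.swap : PreSplit (BiextLib.swap B) m n where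
  τ T q p := s.τ T p q
  hP T q p := s.hQ T p q
  hQ T q p := s.hP T p q
  hmap f q p := s.hmap f p q
  hadd₁ T q q' p := s.hadd₂ T p q q'
  hadd₂ T q p p' := s.hadd₁ T p p' q

theorem PreSplit.coord_eq_zero (hQn : LDiv n Q) (a : P.obj.obj (op T)) (ha : n • a = 0)
    (q : Q.obj.obj (op T)) : coord B (s.τ T a q) ((s.hP T a q).trans ha) = 0 := by
  obtain ⟨R, hR, hdiv⟩ := hQn T q
  refine sect_ext G hR fun T' f hf => ?_
  obtain ⟨q', hq'⟩ := hdiv f hf
  rw [map_zero, ← coord_map B f (s.τ T a q) ((s.hP T a q).trans ha)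
    (by rw [B.πP_map, s.hP, ha, map_zero])]
  have ha' : n • P.obj.map f.op a = 0 := by rw [← map_zsmul, ha, map_zero]
  have e : B.E.obj.map f.op (s.τ T a q) = s.τ T' (P.obj.map f.op a) (n • q') := by rw [s.hmap, hq']
  let F₂ : (b : P.obj.obj (op T')) → (hb : n • b = 0) → Q.obj.obj (op T') →+ G.obj.obj (op T') := fun b hb =>
    AddMonoidHom.mk' (fun y => coord B (s.τ T' b y) ((s.hP T' b y).trans hb)) fun y y' => by
      rw [← coord_add₂ B _ _ ((s.hP T' b y).trans hb) ((s.hP T' b y').trans hb)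
        ((s.hP T' b y).trans (s.hP T' b y').symm) (by rw [B.πP_add₂, s.hP, hb])]
      congr 1
      exact s.hadd₂ T' b y y'
  let K : AddSubgroup (P.obj.obj (op T')) := (zsmulAddGroupHom n).ker
  let F₁ : K →+ G.obj.obj (op T') := AddMonoidHom.mk' (fun b => F₂ b.1 b.2 q') fun b b' => by
    show coord B (s.τ T' (b.1 + b'.1) q') ((s.hP T' _ q').trans (b + b').2) = _
    refine Eq.trans ?_ (coord_add₁ B _ _ ((s.hP T' b.1 q').trans b.2) ((s.hP T' b'.1 q').trans b'.2)
        ((s.hQ T' b.1 q').trans (s.hQ T' b'.1 q').symm)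
        (by rw [B.πP_add₁, s.hP, s.hP, show n • (b.1 : P.obj.obj (op T')) = 0 from b.2,
          show n • (b'.1 : P.obj.obj (op T')) = 0 from b'.2, add_zero]))
    congr 1
    exact s.hadd₁ T' b.1 b'.1 q'
  have hK : n • (⟨P.obj.map f.op a, ha'⟩ : K) = 0 := Subtype.ext ha'
  have h1 : n • F₁ ⟨P.obj.map f.op a, ha'⟩ = 0 := by rw [← map_zsmul, hK, map_zero]
  have h2 : F₂ (P.obj.map f.op a) ha' (n • q') = 0 := by
    rw [map_zsmul]; exact h1
  refine Eq.trans ?_ h2
  exact coord_congr B e _ ((s.hP T' _ _).trans ha')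

theorem PreSplit.eq_left (hQn : LDiv n Q) (p p' : P.obj.obj (op T)) (h : n • p = n • p')
    (q : Q.obj.obj (op T)) : s.τ T p q = s.τ T p' q := by
  have ha : n • (p - p') = 0 := by rw [smul_sub, h, sub_self]
  have e := s.hadd₁ T (p - p') p' q
  rw [sub_add_cancel] at e
  rw [e, add₁_eq_right B (s.coord_eq_zero hQn (p - p') ha q)]

theorem PreSplit.eq_of (hQn : LDiv n Q) (hPm : LDiv m P) (p p' : P.obj.obj (op T))
    (q q' : Q.obj.obj (op T)) (h : n • p = n • p') (h' : m • q = m • q') : s.τ T p q = s.τ T p' q' :=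
  (s.eq_left hQn p p' h q).trans (s.swap.eq_left hPm q q' h' p')

include s in
/-- A biextension whose inverse image by `(n, m)` splits is trivial when the sheaves are divisible. -/
theorem PreSplit.isTrivial (hPn : LDiv n P) (hQn : LDiv n Q) (hPm : LDiv m P) (hQm : LDiv m Q) :
    Biext.IsTrivial J B := by
  classical
  let Good : ∀ T : C, P.obj.obj (op T) → Q.obj.obj (op T) → B.E.obj.obj (op T) → Prop := fun T p q e =>
    ∃ R ∈ J T, ∀ ⦃T' : C⦄ (f : T' ⟶ T), R f → ∃ (p' : P.obj.obj (op T')) (q' : Q.obj.obj (op T')),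
      n • p' = P.obj.map f.op p ∧ m • q' = Q.obj.map f.op q ∧ B.E.obj.map f.op e = s.τ T' p' q'
  have hex : ∀ (T : C) (p : P.obj.obj (op T)) (q : Q.obj.obj (op T)), ∃ e, Good T p q e := by
    intro T p q
    obtain ⟨R₁, hR₁, h₁⟩ := hPn T p
    obtain ⟨R₂, hR₂, h₂⟩ := hQm T q
    have hR : R₁ ⊓ R₂ ∈ J T := J.intersection_covering hR₁ hR₂
    choose p₁ hp₁ using h₁
    choose q₂ hq₂ using h₂
    let fam : Presieve.FamilyOfElements B.E.obj (R₁ ⊓ R₂).arrows := fun T' f hf =>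
      s.τ T' (p₁ f hf.1) (q₂ f hf.2)
    have hcompat : fam.Compatible := by
      intro Y₁ Y₂ Z g₁ g₂ f₁ f₂ h₁ h₂ e
      show B.E.obj.map g₁.op _ = B.E.obj.map g₂.op _
      rw [s.hmap, s.hmap]
      refine s.eq_of hQn hPm _ _ _ _ ?_ ?_
      · rw [← map_zsmul, ← map_zsmul, hp₁, hp₁, map_map, map_map, e]
      · rw [← map_zsmul, ← map_zsmul, hq₂, hq₂, map_map, map_map, e]
    obtain ⟨e, he, -⟩ := ((isSheaf_iff_isSheaf_of_type J B.E.obj).1 B.E.property _ hR) fam hcompat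
    exact ⟨e, _, hR, fun T' f hf => ⟨p₁ f hf.1, q₂ f hf.2, hp₁ f hf.1, hq₂ f hf.2, he f hf⟩⟩
  have huniq : ∀ (T : C) (p : P.obj.obj (op T)) (q : Q.obj.obj (op T)) (e e' : B.E.obj.obj (op T)),
      Good T p q e → Good T p q e' → e = e' := by
    rintro T p q e e' ⟨R, hR, h⟩ ⟨R', hR', h'⟩
    refine sect_ext' B.E (J.intersection_covering hR hR') fun T' f hf => ?_
    obtain ⟨p₁, q₁, hp₁, hq₁, he₁⟩ := h f hf.1
    obtain ⟨p₂, q₂, hp₂, hq₂, he₂⟩ := h' f hf.2
    rw [he₁, he₂]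
    exact s.eq_of hQn hPm _ _ _ _ (hp₁.trans hp₂.symm) (hq₁.trans hq₂.symm)
  choose σ hσ using hex
  have hπP : ∀ (T : C) (p : P.obj.obj (op T)) (q : Q.obj.obj (op T)), B.πP T (σ T p q) = p := by
    intro T p q
    obtain ⟨R, hR, h⟩ := hσ T p q
    refine sect_ext P hR fun T' f hf => ?_
    obtain ⟨p₁, q₁, hp₁, -, he⟩ := h f hf
    rw [← B.πP_map, he, s.hP, hp₁]
  have hπQ : ∀ (T : C) (p : P.obj.obj (op T)) (q : Q.obj.obj (op T)), B.πQ T (σ T p q) = q := by
    intro T p q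
    obtain ⟨R, hR, h⟩ := hσ T p q
    refine sect_ext Q hR fun T' f hf => ?_
    obtain ⟨p₁, q₁, -, hq₁, he⟩ := h f hf
    rw [← B.πQ_map, he, s.hQ, hq₁]
  refine ⟨{ σ := σ, πP_σ := hπP, πQ_σ := hπQ, σ_map := ?_, σ_add₁ := ?_, σ_add₂ := ?_ }⟩
  · intro T T' g p q
    refine huniq T' _ _ _ _ ?_ (hσ T' _ _)
    obtain ⟨R, hR, h⟩ := hσ T p q
    refine ⟨R.pullback g, J.pullback_stable g hR, fun T'' f hf => ?_⟩
    obtain ⟨p₁, q₁, hp₁, hq₁, he⟩ := h (f ≫ g) hf
    refine ⟨p₁, q₁, ?_, ?_, ?_⟩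
    · rw [hp₁, map_map]
    · rw [hq₁, map_map]
    · rw [map_map', he]
  · intro T p p' q
    refine huniq T _ _ _ _ (hσ T _ _) ?_
    obtain ⟨R, hR, h⟩ := hσ T p q
    obtain ⟨R', hR', h'⟩ := hσ T p' q
    refine ⟨R ⊓ R', J.intersection_covering hR hR', fun T' f hf => ?_⟩
    obtain ⟨p₁, q₁, hp₁, hq₁, he⟩ := h f hf.1
    obtain ⟨p₂, q₂, hp₂, hq₂, he'⟩ := h' f hf.2
    refine ⟨p₁ + p₂, q₁, by rw [smul_add, hp₁, hp₂, map_add], hq₁, ?_⟩
    rw [B.add₁_map, s.hadd₁]
    exact add₁_congr B he (he'.trans (s.eq_of hQn hPm _ _ _ _ rfl (hq₂.trans hq₁.symm))) _ _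
  · intro T p q q'
    refine huniq T _ _ _ _ (hσ T _ _) ?_
    obtain ⟨R, hR, h⟩ := hσ T p q
    obtain ⟨R', hR', h'⟩ := hσ T p q'
    refine ⟨R ⊓ R', J.intersection_covering hR hR', fun T' f hf => ?_⟩
    obtain ⟨p₁, q₁, hp₁, hq₁, he⟩ := h f hf.1
    obtain ⟨p₂, q₂, hp₂, hq₂, he'⟩ := h' f hf.2
    refine ⟨p₁, q₁ + q₂, hp₁, by rw [smul_add, hq₁, hq₂, map_add], ?_⟩
    rw [B.add₂_map, s.hadd₂]
    exact add₂_congr B he (he'.trans (s.eq_of hQn hPm _ _ _ _ (hp₂.trans hp₁.symm) rfl)) _ _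

end Groth.Agent.BiextLib
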